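import Cfsg.Agent.S2566
import Cfsg.Agent.Lib.Orth.DeletedPerm
import Cfsg.Agent.Lib.Characters.BrauerPerm
import Cfsg.Agent.Lib.Characters.PermTwo

/-!
# The degenerate case `PΩ⁺₄(2)` of the Steinberg character

Here the commutator subgroup of the isometry group has order 18; it is the group of pairs of permutations of
three letters of equal sign.
-/

set_option autoImplicit false
set_option linter.unusedSectionVars false
set_option linter.style.haveILetI false

noncomputable section

namespace CfsgLib.PolarSt.PlusFourTwo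

open Cfsg Cfsg.Agent.S2566 CfsgLib.KnownSimple.QuadTwo
open scoped commutatorElement

/-- The sign comparison. -/
def eps : Equiv.Perm (Fin 3) × Equiv.Perm (Fin 3) →* ℤˣ :=
  (Equiv.Perm.sign.comp (MonoidHom.fst _ _)) * (Equiv.Perm.sign.comp (MonoidHom.snd _ _))

theorem eps_apply (a b : Equiv.Perm (Fin 3)) : eps (a, b) = Equiv.Perm.sign a * Equiv.Perm.sign b := rfl

/-- Pairs of equal sign. -/
abbrev H18 : Subgroup (Equiv.Perm (Fin 3) × Equiv.Perm (Fin 3)) := eps.ker

theorem mem_H18 (a b : Equiv.Perm (Fin 3)) :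
    (a, b) ∈ H18 ↔ Equiv.Perm.sign a * Equiv.Perm.sign b = 1 := Iff.rfl

theorem H18_center : ∀ x : H18, (∀ y : H18, x * y = y * x) → x = 1 := by
  have h : ∀ a b : Equiv.Perm (Fin 3), Equiv.Perm.sign a * Equiv.Perm.sign b = 1 →
      (∀ c d : Equiv.Perm (Fin 3), Equiv.Perm.sign c * Equiv.Perm.sign d = 1 → a * c = c * a ∧ b * d = d * b) →
      a = 1 ∧ b = 1 := by decide +kernel
  rintro ⟨⟨a, b⟩, hab⟩ hcomm
  obtain ⟨rfl, rfl⟩ := h a b hab fun c d hcd => by
    have h1 := congrArg Subtype.val (hcomm ⟨(c, d), hcd⟩)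
    exact ⟨congrArg Prod.fst h1, congrArg Prod.snd h1⟩
  rfl

theorem H18_card : Nat.card H18 = 18 := by
  have h : Nat.card H18 = (Finset.univ.filter fun x : Equiv.Perm (Fin 3) × Equiv.Perm (Fin 3) =>
      Equiv.Perm.sign x.1 * Equiv.Perm.sign x.2 = 1).card := by
    rw [← Fintype.card_subtype, ← Nat.card_eq_fintype_card]
    exact Nat.card_congr (Equiv.subtypeEquivRight fun x => Iff.rfl)
  rw [h]
  decide +kernel

abbrev O2 := ↥(Cfsg.isometryGroup (ZMod 2) (Cfsg.quadFormPlus 2 (ZMod 2)))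

theorem lr_commute (π ρ : Equiv.Perm (Fin 3)) : Commute (leftHom π) (rightHom ρ) :=
  Subtype.ext (Units.ext (comm_table π ρ).1)

/-- The embedding of the pairs. -/
def emb : Equiv.Perm (Fin 3) × Equiv.Perm (Fin 3) →* O2 := leftHom.noncommCoprod rightHom lr_commute

theorem emb_apply (π ρ : Equiv.Perm (Fin 3)) : emb (π, ρ) = leftHom π * rightHom ρ := rfl

theorem emb_injective : Function.Injective emb := by
  rw [injective_iff_map_eq_one]
  rintro ⟨π, ρ⟩ h
  obtain ⟨rfl, rfl⟩ := (comm_table π ρ).2 (congrArg (fun g : O2 => g.1.1) h)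
  rfl

/-- The transposition of the tensor factors. -/
def sw : O2 := ofGood swapM swap_good.1

theorem sw_mul_self : sw * sw = 1 :=
  Subtype.ext (Units.ext (show swapM * swapM = 1 by decide +kernel))

theorem sw_inv : sw⁻¹ = sw := inv_eq_of_mul_eq_one_left sw_mul_self

theorem sw_left (π : Equiv.Perm (Fin 3)) : sw * leftHom π * sw = rightHom π := by
  have h : sw * leftHom π = rightHom π * sw := Subtype.ext (Units.ext (swap_good.2 π))
  rw [h, mul_assoc, sw_mul_self, mul_one]

theorem sw_right (π : Equiv.Perm (Fin 3)) : sw * rightHom π * sw = leftHom π := by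
  rw [← sw_left]
  calc sw * (sw * leftHom π * sw) * sw = (sw * sw) * leftHom π * (sw * sw) := by group
    _ = leftHom π := by rw [sw_mul_self, one_mul, mul_one]

theorem sw_emb (π ρ : Equiv.Perm (Fin 3)) : sw * emb (π, ρ) * sw = emb (ρ, π) := by
  have h : sw * emb (π, ρ) * sw = (sw * leftHom π * sw) * (sw * rightHom ρ * sw) := by
    simp only [emb_apply, mul_assoc]
    rw [← mul_assoc sw sw, sw_mul_self, one_mul]
  rw [h, sw_left, sw_right, emb_apply, ((lr_commute ρ π).eq)]

theorem sw_not_mem : sw ∉ emb.range := by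
  have h : ∀ π ρ, tensor (perm2 π) 1 * tensor 1 (perm2 ρ) ≠ swapM := by decide +kernel
  rintro ⟨⟨π, ρ⟩, h1⟩
  exact h π ρ (congrArg (fun g : O2 => g.1.1) h1)

theorem emb_range_index : emb.range.index = 2 := by
  have h := emb.range.card_mul_index
  rw [card_iso, ← Nat.card_congr (MonoidHom.ofInjective emb_injective).toEquiv, Nat.card_prod, Nat.card_perm,
    Nat.card_eq_fintype_card, Fintype.card_fin, show Nat.factorial 3 = 6 from rfl] at h
  omega

theorem O2_cases (g : O2) : g ∈ emb.range ∨ g * sw ∈ emb.range := by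
  by_cases hg : g ∈ emb.range
  · exact Or.inl hg
  · exact Or.inr ((Subgroup.mul_mem_iff_of_index_two emb_range_index).2 (iff_of_false hg sw_not_mem))

theorem commutator_O2 : commutator O2 = H18.map emb := by
  haveI : Finite O2 := Nat.finite_of_card_ne_zero (by rw [card_iso]; norm_num)
  set N := H18.map emb with hN
  have hmem : ∀ a b, (a, b) ∈ H18 → emb (a, b) ∈ N := fun a b h => ⟨_, h, rfl⟩
  have hsw : ∀ x ∈ N, sw * x * sw ∈ N := by
    rintro _ ⟨⟨a, b⟩, h, rfl⟩
    rw [sw_emb]
    exact hmem b a (by rw [mem_H18, mul_comm]; exact h)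
  haveI hnorm : N.Normal := by
    refine ⟨fun x hx g => ?_⟩
    have hrange : ∀ p x, x ∈ N → emb p * x * (emb p)⁻¹ ∈ N := by
      rintro p _ ⟨q, hq, rfl⟩
      exact ⟨p * q * p⁻¹, Subgroup.Normal.conj_mem inferInstance q hq p, by rw [map_mul, map_mul, map_inv]⟩
    rcases O2_cases g with ⟨p, rfl⟩ | ⟨p, hp⟩
    · exact hrange p x hx
    · have hg : g = emb p * sw := by rw [hp, mul_assoc, sw_mul_self, mul_one]
      have h1 := hrange p _ (hsw x hx)
      rw [hg, mul_inv_rev, sw_inv]
      simpa [mul_assoc] using h1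
  refine le_antisymm ?_ ?_
  · have hcard : Nat.card N = 18 := by
      rw [hN, ← Nat.card_congr (H18.equivMapOfInjective emb emb_injective).toEquiv, H18_card]
    have hq : Nat.card (O2 ⧸ N) = 2 ^ 2 := by
      have h := N.card_eq_card_quotient_mul_card_subgroup
      rw [card_iso, hcard] at h
      omega
    haveI : Fact (Nat.Prime 2) := ⟨Nat.prime_two⟩
    have hcm := IsPGroup.isMulCommutative_of_card_eq_prime_sq (G := O2 ⧸ N) hq
    rw [commutator_eq_closure, Subgroup.closure_le]
    rintro _ ⟨x, y, rfl⟩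
    rw [SetLike.mem_coe, ← QuotientGroup.eq_one_iff, ← QuotientGroup.mk'_apply, map_commutatorElement]
    exact commutatorElement_eq_one_iff_mul_comm.2 (hcm.is_comm.comm _ _)
  · rintro _ ⟨⟨a, b⟩, h, rfl⟩
    have hA3 : ∀ c : Equiv.Perm (Fin 3), Equiv.Perm.sign c = 1 → ∃ x y : Equiv.Perm (Fin 3),
        x * y * x⁻¹ * y⁻¹ = c := by decide +kernel
    obtain ⟨x, y, hxy⟩ := hA3 (a * b) (by rw [map_mul]; exact h)
    have hcomm : ∀ g k : O2, ⁅g, k⁆ ∈ commutator O2 := fun g k =>
      Subgroup.commutator_mem_commutator (Subgroup.mem_top _) (Subgroup.mem_top _)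
    have h1 : emb (a, a⁻¹) ∈ commutator O2 := by
      have h2 : ⁅sw, emb (a⁻¹, 1)⁆ = emb (a, a⁻¹) := by
        rw [commutatorElement_def, sw_inv, sw_emb, ← map_inv, ← map_mul]
        exact congrArg emb (by ext <;> simp)
      rw [← h2]; exact hcomm _ _
    have h2 : emb (1, a * b) ∈ commutator O2 := by
      have h3 : ⁅emb (1, x), emb (1, y)⁆ = emb (1, a * b) := by
        rw [← map_commutatorElement, commutatorElement_def]
        exact congrArg emb (by ext <;> simp [hxy])
      rw [← h3]; exact hcomm _ _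
    have h3 : emb (a, b) = emb (a, a⁻¹) * emb (1, a * b) := by
      rw [← map_mul]; exact congrArg emb (by ext <;> simp)
    rw [h3]
    exact (commutator O2).mul_mem h1 h2

variable {F : Type*} [Field F] [Fintype F]

/-- The equal-sign pairs are `PΩ⁺₄(F)` for `|F| = 2`. -/
theorem exists_equiv (hF : Fintype.card F = 2) :
    Nonempty (Cfsg.POmega F (Cfsg.quadFormPlus 2 F) ≃* H18) := by
  classical
  let e : ZMod 2 ≃+* F := ZMod.ringEquivOfPrime F Nat.prime_two hF
  let E := CfsgLib.Orth.isometryGroupCongr e (Cfsg.quadFormPlus 2 (ZMod 2)) (Cfsg.quadFormPlus 2 F)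
    (fun v => by simp [Cfsg.quadFormPlus, map_sum, map_mul])
  have hmap : (commutator O2).map E.toMonoidHom = Cfsg.Omega F (Cfsg.quadFormPlus 2 F) := by
    rw [commutator_def, Subgroup.map_commutator, Subgroup.map_top_of_surjective _ E.surjective]
    rfl
  let E1 : H18 ≃* ↥(Cfsg.Omega F (Cfsg.quadFormPlus 2 F)) :=
    (H18.equivMapOfInjective emb emb_injective).trans ((MulEquiv.subgroupCongr commutator_O2.symm).trans
      ((E.subgroupMap _).trans (MulEquiv.subgroupCongr hmap)))
  have hc : Subgroup.center ↥(Cfsg.Omega F (Cfsg.quadFormPlus 2 F)) = ⊥ := by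
    rw [eq_bot_iff]
    intro z hz
    have h := H18_center (E1.symm z) fun y => by
      apply E1.injective
      rw [map_mul, map_mul, E1.apply_symm_apply]
      exact (Subgroup.mem_center_iff.1 hz _).symm
    rw [Subgroup.mem_bot, ← E1.apply_symm_apply z, h, map_one]
  exact ⟨(QuotientGroup.quotientMulEquivOfEq hc).trans (QuotientGroup.quotientBot.trans E1.symm)⟩

/-- **The Steinberg character of `PΩ⁺₄(2)`.** -/
theorem exists_char (p : ℕ) [Fact p.Prime] [CharP F p] (hF : Fintype.card F = 2) :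
    ∃ χ : Cfsg.POmega F (Cfsg.quadFormPlus 2 F) → ℂ,
      Cfsg.IsIrrCharacter (Cfsg.POmega F (Cfsg.quadFormPlus 2 F)) χ ∧
      ∀ P : Sylow p (Cfsg.POmega F (Cfsg.quadFormPlus 2 F)),
        χ 1 = Nat.card P ∧ ∀ x, x ∈ P → x ≠ 1 → χ x = 0 := by
  classical
  obtain rfl : p = 2 := by
    have h : (p : ℕ) ∣ 2 := by
      rw [← CharP.cast_eq_zero_iff F p, ← hF]
      exact Nat.cast_card_eq_zero F
    exact (Nat.prime_dvd_prime_iff_eq Fact.out Nat.prime_two).1 h
  obtain ⟨E⟩ := exists_equiv hF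
  letI : MulAction H18 (Fin 3) := MulAction.compHom _ ((MonoidHom.fst _ _).comp H18.subtype)
  have h2t : MulAction.IsMultiplyPretransitive H18 (Fin 3) 2 := by
    rw [MulAction.is_two_pretransitive_iff]
    intro a b c d hab hcd
    have h : ∀ a b c d : Fin 3, a ≠ b → c ≠ d → ∃ π : Equiv.Perm (Fin 3), π a = c ∧ π b = d := by
      decide +kernel
    obtain ⟨π, h1, h2⟩ := h a b c d hab hcd
    exact ⟨⟨(π, π), Int.units_mul_self _⟩, h1, h2⟩
  haveI : MulAction.IsPretransitive H18 (Fin 3) := by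
    refine ⟨fun a c => ?_⟩
    have h : ∀ a c : Fin 3, ∃ π : Equiv.Perm (Fin 3), π a = c := by decide +kernel
    obtain ⟨π, h1⟩ := h a c
    exact ⟨⟨(π, π), Int.units_mul_self _⟩, h1⟩
  have hirr := (CfsgLib.PermTwo.isIrrCharacter_fix_sub_one_iff (G := H18) (X := Fin 3)
    (by simp)).2 h2t
  refine ⟨_, CfsgLib.BrauerPerm.isIrrCharacter_comp_equiv hirr E, fun P => ?_⟩
  haveI : Finite (Cfsg.POmega F (Cfsg.quadFormPlus 2 F)) := Finite.of_injective E E.injective
  have hP : Nat.card P = 2 := by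
    rw [P.card_eq_multiplicity, Nat.card_congr E.toEquiv, H18_card, Nat.factorization_def _ Nat.prime_two,
      show (18 : ℕ) = 2 ^ 1 * 9 by norm_num, padicValNat.mul (by norm_num) (by norm_num),
      padicValNat.prime_pow, padicValNat.eq_zero_of_not_dvd (by norm_num)]
    norm_num
  have hfix : ∀ y : H18, (Nat.card (MulAction.fixedBy (Fin 3) y) : ℂ) =
      ((Finset.univ.filter fun i : Fin 3 => y.1.1 i = i).card : ℂ) := fun y => by
    rw [← Fintype.card_subtype, ← Nat.card_eq_fintype_card]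
    exact congrArg Nat.cast (Nat.card_congr (Equiv.subtypeEquivRight fun i => Iff.rfl))
  constructor
  · rw [hP, map_one, hfix]
    simp only [OneMemClass.coe_one, Prod.fst_one, Equiv.Perm.one_apply, Finset.filter_true,
      Finset.card_univ, Fintype.card_fin]
    norm_num
  · intro x hx hx1
    have hxx : x * x = 1 := by
      have h := pow_card_eq_one' (G := P) (x := ⟨x, hx⟩)
      rw [hP, pow_two] at h
      exact congrArg Subtype.val h
    have h : ∀ a b : Equiv.Perm (Fin 3), Equiv.Perm.sign a * Equiv.Perm.sign b = 1 → a * a = 1 → b * b = 1 →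
        (a, b) ≠ 1 → (Finset.univ.filter fun i : Fin 3 => a i = i).card = 1 := by decide +kernel
    obtain ⟨⟨⟨a, b⟩, hab⟩, hy⟩ : ∃ y, E x = y := ⟨_, rfl⟩
    have hyy := congrArg E hxx
    rw [map_mul, map_one, hy] at hyy
    show ((Nat.card (MulAction.fixedBy (Fin 3) (E x)) : ℂ)) - 1 = 0
    rw [hy, hfix, h a b hab (congrArg (fun y : H18 => y.1.1) hyy) (congrArg (fun y : H18 => y.1.2) hyy)
      fun h0 => hx1 (E.injective (by rw [hy, map_one]; exact Subtype.ext h0))]
    simp

end CfsgLib.PolarSt.PlusFourTwo
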